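import Mathlib

/-! Edge labellings of connected bipartite graphs with prescribed vertex sums. -/

set_option autoImplicit false

namespace Groth.Agent.GraphLib

universe u v

variable {V : Type u} [Fintype V] [DecidableEq V] (G : SimpleGraph V) [DecidableRel G.Adj] (c : V → Bool)
variable {A : Type v} [AddCommGroup A]

/-- The sign of a vertex. -/
def sgn (v : V) : ℤ := if c v then 1 else -1

/-- The signed sum at a vertex. -/
def bdry : (Sym2 V → A) →+ (V → A) where
  toFun x v := sgn c v • ∑ e ∈ G.incidenceFinset v, x e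
  map_zero' := by funext v; simp
  map_add' x y := by funext v; simp [Finset.sum_add_distrib, smul_add]

/-- A labelling by one element along the edge `e`. -/
def lab (e : Sym2 V) : A →+ (Sym2 V → A) := AddMonoidHom.single (fun _ : Sym2 V => A) e

omit [DecidableRel G.Adj] [Fintype V] [AddCommGroup A] in
theorem sgn_sq (v : V) : sgn c v * sgn c v = 1 := by unfold sgn; split <;> rfl

theorem bdry_eq_zero_iff (x : Sym2 V → A) :
    bdry G c x = 0 ↔ ∀ v, ∑ e ∈ G.incidenceFinset v, x e = 0 := by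
  refine ⟨fun h v => ?_, fun h => ?_⟩
  · have h1 := congrArg (fun a => sgn c v • a) (congrFun h v)
    simpa [bdry, smul_smul, sgn_sq] using h1
  · funext v
    simp [bdry, h v]

theorem bdry_lab (hbip : ∀ v w : V, G.Adj v w → c v ≠ c w) {a b : V} (h : G.Adj a b) (t : A) :
    bdry G c (lab s(a, b) (sgn c a • t)) = Pi.single a t - Pi.single b t := by
  funext v
  show sgn c v • ∑ e ∈ G.incidenceFinset v, Pi.single s(a, b) (sgn c a • t) e = _
  rw [Finset.sum_pi_single']
  have hne := G.ne_of_adj h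
  by_cases hv : s(a, b) ∈ G.incidenceFinset v
  · rw [if_pos hv, smul_smul]
    rw [SimpleGraph.mem_incidenceFinset] at hv
    rcases Sym2.mem_iff.1 hv.2 with rfl | rfl
    · simp [sgn_sq, hne]
    · have h1 := hbip _ _ h
      have h2 : sgn c v * sgn c a = -1 := by
        unfold sgn
        revert h1
        cases c a <;> cases c v <;> simp
      simp [h2, hne.symm]
  · rw [if_neg hv, smul_zero]
    have : v ≠ a ∧ v ≠ b := by
      rw [SimpleGraph.mem_incidenceFinset] at hv
      constructor <;> rintro rfl <;> exact hv ⟨h, by simp⟩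
    simp [this.1, this.2]

/-- Labellings along a walk. -/
theorem exists_walk_hom (hbip : ∀ v w : V, G.Adj v w → c v ≠ c w) (H : SimpleGraph V) (hH : H ≤ G) {a b : V}
    (p : H.Walk a b) : ∃ φ : A →+ (Sym2 V → A), (∀ t e, e ∉ H.edgeSet → φ t e = 0) ∧
      ∀ t, bdry G c (φ t) = Pi.single a t - Pi.single b t := by
  induction p with
  | nil => exact ⟨0, fun t e _ => rfl, fun t => by simp⟩
  | @cons a m b h p ih =>
    obtain ⟨φ, hφ, hb⟩ := ih
    refine ⟨(lab s(a, m)).comp (sgn c a • AddMonoidHom.id A) + φ, fun t e he => ?_, fun t => ?_⟩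
    · have hne : e ≠ s(a, m) := fun h' => he (h' ▸ h)
      simp [lab, hne, hφ t e he]
    · rw [AddMonoidHom.add_apply, map_add, hb]
      simp only [AddMonoidHom.comp_apply]
      rw [show ((sgn c a • AddMonoidHom.id A) t) = sgn c a • t from rfl, bdry_lab G c hbip (hH h)]
      abel

theorem exists_labelling (hconn : G.Connected) (hbip : ∀ v w : V, G.Adj v w → c v ≠ c w) (a : V → A)
    (hsum : ∑ v ∈ Finset.univ.filter (fun v => c v = true), a v =
      ∑ v ∈ Finset.univ.filter (fun v => c v = false), a v) :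
    ∃ x : Sym2 V → A, ∀ v : V, ∑ e ∈ G.incidenceFinset v, x e = a v := by
  obtain ⟨v₀⟩ := hconn.nonempty
  choose φ _ hφ using fun v => exists_walk_hom (A := A) G c hbip G le_rfl (hconn.preconnected v v₀).some
  refine ⟨∑ v, φ v (sgn c v • a v), fun w => ?_⟩
  have h0 : ∑ v, sgn c v • a v = 0 := by
    rw [← Finset.sum_filter_add_sum_filter_not Finset.univ (fun v => c v = true),
      Finset.sum_congr rfl (fun v hv => by rw [sgn, if_pos (Finset.mem_filter.1 hv).2, one_smul])]
    rw [Finset.sum_congr rfl (s₁ := Finset.univ.filter fun v => ¬c v = true)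
      (fun v hv => by rw [sgn, if_neg (Finset.mem_filter.1 hv).2, neg_smul, one_smul]), Finset.sum_neg_distrib, hsum]
    simp
  have h1 : bdry G c (∑ v, φ v (sgn c v • a v)) w = sgn c w • a w := by
    rw [map_sum, Finset.sum_congr rfl fun v _ => hφ v _, Finset.sum_apply]
    simp only [Pi.sub_apply, Pi.single_apply, Finset.sum_sub_distrib, Finset.sum_ite_eq, Finset.mem_univ, if_true]
    by_cases hw : w = v₀
    · simp [hw, h0]
    · simp [hw]
  generalize (∑ v, φ v (sgn c v • a v)) = x at h1 ⊢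
  have h2 := congrArg (fun t => sgn c w • t) h1
  simpa [bdry, smul_smul, sgn_sq] using h2

theorem exists_splitting (hbip : ∀ v w : V, G.Adj v w → c v ≠ c w) (H : SimpleGraph V) (hH : H ≤ G) (hHc : H.Connected)
    (e₀ : Sym2 V) (he₀ : e₀ ∈ G.edgeSet) (hne : e₀ ∉ H.edgeSet) :
    ∃ φ : A →+ (Sym2 V → A),
      (∀ t : A, (∀ e : Sym2 V, e ∉ H.edgeSet → e ≠ e₀ → φ t e = 0) ∧ ∀ v : V, ∑ e ∈ G.incidenceFinset v, φ t e = 0) ∧
      ∀ t : A, φ t e₀ = t := by
  induction e₀ using Sym2.ind with
  | _ a b =>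
    obtain ⟨ψ, hψ, hb⟩ := exists_walk_hom (A := A) G c hbip H hH (hHc.preconnected b a).some
    refine ⟨lab s(a, b) + ψ.comp (sgn c a • AddMonoidHom.id A), fun t => ⟨fun e he hne' => ?_, ?_⟩, fun t => ?_⟩
    · simp [lab, hne', hψ _ e he]
    · rw [← bdry_eq_zero_iff G c]
      have hab := bdry_lab G c hbip (show G.Adj a b from he₀) (sgn c a • t)
      rw [smul_smul, sgn_sq, one_smul] at hab
      rw [AddMonoidHom.add_apply, map_add, hab, AddMonoidHom.comp_apply,
        show ((sgn c a • AddMonoidHom.id A) t) = sgn c a • t from rfl, hb]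
      abel
    · simp [lab, hψ _ _ hne]

theorem eq_zero_of_isAcyclic (T : SimpleGraph V) (hT : T.IsAcyclic) (hTG : T ≤ G) (x : Sym2 V → A)
    (hsupp : ∀ e, e ∉ T.edgeSet → x e = 0) (hx : ∀ v, ∑ e ∈ G.incidenceFinset v, x e = 0) : x = 0 := by
  classical
  by_contra hne
  let W : SimpleGraph V := T.deleteEdges {e | x e = 0}
  have hW : W.IsAcyclic := hT.anti (SimpleGraph.deleteEdges_le _)
  obtain ⟨e, he⟩ : ∃ e, x e ≠ 0 := Function.ne_iff.1 hne
  induction e using Sym2.ind with
  | _ a b =>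
    have hTab : T.Adj a b := by
      by_contra h
      exact he (hsupp _ h)
    have hab : W.Adj a b := SimpleGraph.deleteEdges_adj.2 ⟨hTab, he⟩
    obtain ⟨u, w, huw, huniq⟩ : ∃ u w, W.Adj u w ∧ ∀ z, W.Adj u z → z = w := by
      haveI : Nontrivial V := ⟨a, b, hab.ne⟩
      obtain ⟨m, hm⟩ : ∃ m : {p : Σ u : V, Σ v : V, W.Walk u v // p.2.2.IsPath},
          ∀ q : {p : Σ u : V, Σ v : V, W.Walk u v // p.2.2.IsPath}, q.1.2.2.length ≤ m.1.2.2.length := by
        haveI : Nonempty {p : Σ u : V, Σ v : V, W.Walk u v // p.2.2.IsPath} :=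
          ⟨⟨⟨a, a, .nil⟩, SimpleGraph.Walk.IsPath.nil⟩⟩
        obtain ⟨m, hm⟩ : ∃ m : ℕ, ∀ q : {p : Σ u : V, Σ v : V, W.Walk u v // p.2.2.IsPath}, q.1.2.2.length ≤ m :=
          ⟨Fintype.card V, fun q => q.2.length_lt.le⟩
        let S := Set.range fun q : {p : Σ u : V, Σ v : V, W.Walk u v // p.2.2.IsPath} => q.1.2.2.length
        have hS : S.Finite := (Set.finite_Iic m).subset (by rintro _ ⟨q, rfl⟩; exact hm q)
        obtain ⟨_, ⟨q, rfl⟩, hq⟩ := hS.exists_maximal (Set.range_nonempty _)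
        exact ⟨q, fun q' => (le_total _ _).elim id fun h => hq ⟨q', rfl⟩ h⟩
      obtain ⟨⟨u, v, p⟩, hp⟩ := m
      cases p with
      | nil =>
        have := hm ⟨⟨a, b, .cons hab .nil⟩, by simp [hab.ne]⟩
        simp at this
      | @cons u w v h p' =>
        refine ⟨u, w, h, fun z hz => ?_⟩
        by_contra hzw
        by_cases hmem : z ∈ (SimpleGraph.Walk.cons h p').support
        · have hpth : (SimpleGraph.Walk.cons h p').takeUntil z hmem |>.IsPath := hp.takeUntil hmem
          have heq := hW.path_unique ⟨_, hpth⟩ ⟨SimpleGraph.Walk.cons hz .nil, by simp [hz.ne]⟩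
          have hlen : ((SimpleGraph.Walk.cons h p').takeUntil z hmem).length = 1 := by
            have := congrArg (fun q : W.Path u z => (q : W.Walk u z).length) heq
            simpa using this
          have hget := (SimpleGraph.Walk.cons h p').getVert_length_takeUntil hmem
          rw [hlen] at hget
          simp at hget
          exact hzw hget.symm
        · have := hm ⟨⟨z, v, .cons hz.symm (.cons h p')⟩, hp.cons hmem⟩
          simp at this
    obtain ⟨huwT, hxne⟩ := SimpleGraph.deleteEdges_adj.1 huw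
    refine hxne ?_
    have h1 := hx u
    rw [Finset.sum_eq_single s(u, w)] at h1
    · exact h1
    · intro e he hne
      rw [SimpleGraph.mem_incidenceFinset] at he
      obtain ⟨z, rfl⟩ := Sym2.mem_iff_exists.1 he.2
      by_contra hxz
      by_cases hTz : T.Adj u z
      · exact hne (by rw [huniq z (SimpleGraph.deleteEdges_adj.2 ⟨hTz, hxz⟩)])
      · exact hxz (hsupp _ hTz)
    · intro h
      exact absurd ((G.mem_incidenceFinset u _).2 ⟨hTG huwT, by simp⟩) h

theorem exists_basis_hom (hconn : G.Connected) (hbip : ∀ v w : V, G.Adj v w → c v ≠ c w) (n : ℕ)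
    (hn : G.edgeFinset.card + 1 = Fintype.card V + n) :
    ∃ f : (Fin n → A) →+ (Sym2 V → A), Function.Injective f ∧
      Set.range f = {x : Sym2 V → A | (∀ e : Sym2 V, e ∉ G.edgeSet → x e = 0) ∧
        ∀ v : V, ∑ e ∈ G.incidenceFinset v, x e = 0} := by
  classical
  obtain ⟨T, hTG, hT⟩ := hconn.exists_isTree_le
  let N := G.edgeFinset \ T.edgeFinset
  have hN : N.card = n := by
    have h1 := hT.card_edgeFinset
    have h2 : T.edgeFinset ⊆ G.edgeFinset := SimpleGraph.edgeFinset_mono hTG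
    rw [Finset.card_sdiff_of_subset h2]
    omega
  let ε : Fin n ≃ N := (N.equivFinOfCardEq hN).symm
  have hε : ∀ i, (ε i : Sym2 V) ∈ G.edgeSet ∧ (ε i : Sym2 V) ∉ T.edgeSet := fun i => by
    have h := (ε i).2
    rw [Finset.mem_sdiff, SimpleGraph.mem_edgeFinset, SimpleGraph.mem_edgeFinset] at h
    exact h
  choose φ hφ hφ1 using fun i => exists_splitting (A := A) G c hbip T hTG hT.connected (ε i : Sym2 V) (hε i).1 (hε i).2
  let f : (Fin n → A) →+ (Sym2 V → A) := ∑ i, (φ i).comp (Pi.evalAddMonoidHom (fun _ : Fin n => A) i)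
  have hf : ∀ t, f t = ∑ i, φ i (t i) := fun t => by simp [f]
  have heval : ∀ t j, f t (ε j : Sym2 V) = t j := fun t j => by
    rw [hf, Finset.sum_apply, Finset.sum_eq_single j]
    · exact hφ1 j _
    · intro i _ hij
      exact (hφ i _).1 _ (hε j).2 fun h => hij (ε.injective (Subtype.ext h.symm))
    · simp
  have hmem : ∀ t, (∀ e : Sym2 V, e ∉ G.edgeSet → f t e = 0) ∧ ∀ v : V, ∑ e ∈ G.incidenceFinset v, f t e = 0 := by
    refine fun t => ⟨fun e he => ?_, fun v => ?_⟩
    · rw [hf, Finset.sum_apply]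
      refine Finset.sum_eq_zero fun i _ => (hφ i _).1 e (fun h => he (SimpleGraph.edgeSet_mono hTG h)) fun h => ?_
      exact he (h ▸ (hε i).1)
    · simp only [hf, Finset.sum_apply]
      rw [Finset.sum_comm]
      exact Finset.sum_eq_zero fun i _ => (hφ i _).2 v
  refine ⟨f, fun s t h => funext fun j => ?_, Set.ext fun x => ⟨?_, fun ⟨hx1, hx2⟩ => ?_⟩⟩
  · rw [← heval s, ← heval t, h]
  · rintro ⟨t, rfl⟩
    exact hmem t
  · refine ⟨fun j => x (ε j : Sym2 V), (sub_eq_zero.1 ?_).symm⟩
    refine eq_zero_of_isAcyclic G T hT.isAcyclic hTG _ (fun e he => ?_) fun v => ?_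
    · by_cases heG : e ∈ G.edgeSet
      · have : e ∈ N := Finset.mem_sdiff.2 ⟨SimpleGraph.mem_edgeFinset.2 heG, fun h => he (SimpleGraph.mem_edgeFinset.1 h)⟩
        obtain ⟨j, hj⟩ := ε.surjective ⟨e, this⟩
        obtain rfl : (ε j : Sym2 V) = e := congrArg Subtype.val hj
        rw [Pi.sub_apply, heval, sub_self]
      · rw [Pi.sub_apply, hx1 e heG, (hmem _).1 e heG, sub_self]
    · simp only [Pi.sub_apply, Finset.sum_sub_distrib, hx2 v, (hmem _).2 v, sub_self]

end Groth.Agent.GraphLib
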